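import Cfsg.Agent.Cor.AltEGen

/-!
# Alternating sections of the groups of type `E` (helper38)
-/

set_option autoImplicit false

namespace Cfsg.Lib.Cor.AltE

open Module Subgroup Equiv Matrix Cfsg.Lie Cfsg.Lib.Cor.Alt

universe u

theorem tab6 {r : ℕ} [NeZero r] (hr : r ∣ 66) {Q : ℕ → Bool} (h : alc6.chk 0 r Q = true) :
    Chk (l := 6) (fun a : Fin 27 => alc6.wt a) r Q := fun n =>
  (congrArg Q (zero_add _)).symm.trans (Alc.table ok6 hr h n)

theorem tab7 {r : ℕ} [NeZero r] (hr : r ∣ 35) {Q : ℕ → Bool} (h : alc7.chk 0 r Q = true) :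
    Chk (l := 7) (fun a : Fin 56 => alc7.wt a) r Q := fun n =>
  (congrArg Q (zero_add _)).symm.trans (Alc.table ok7 hr h n)

theorem tab8 {r : ℕ} [NeZero r] (hr : r ∣ 102) {Q : ℕ → Bool} (h : alc8.chk 8 r Q = true) :
    Chk (l := 8) (Sum.elim (0 : Fin 8 → _) fun a : Fin 240 => alc8.wt a) r Q := fun n =>
  (congrArg Q ((Fintype.sum_sum_type _).trans (congrArg₂ _ (show ∑ _ : Fin 8,
    512 ^ (((0 : Fin 8 → ℤ) ⬝ᵥ n : ℤ) : ZMod r).val = 8 by simp) rfl))).trans
    (Alc.table ok8 hr h n)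

theorem plOK12 : PlOK (N := 11) ![[(0, -1)], [(2, 1), (3, -1)], [(5, 1), (6, -1)], [(8, 1),
    (9, -1)], [(0, 1), (1, 1), (2, -1), (3, -1), (4, -1)]] ![[(0, 1), (1, -1)], [(3, 1), (4, -1)],
    [(6, 1), (7, -1)], [(9, 1), (10, -1)], [(5, 1), (6, 1), (7, 1), (8, -1), (9, -1), (10, -1)]]
    [(0, 1), (1, 1), (2, 1), (3, 1), (4, 1), (5, -1), (6, -1), (7, -1), (8, -1), (9, -1), (10, -1)]
    36 := by decide +kernel

theorem plOK18 : PlOK (N := 17) ![[(0, -1)], [(2, 1), (3, -1)], [(5, 1), (6, -1)], [(8, 1),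
    (9, -1)], [(11, 1), (12, -1)], [(14, 1), (15, -1)], [(0, 1), (1, 1), (2, -1), (3, -1), (4, -1)],
    [(8, 1), (9, 1), (10, 1), (11, -1), (12, -1), (13, -1)]] ![[(0, 1), (1, -1)], [(3, 1), (4, -1)],
    [(6, 1), (7, -1)], [(9, 1), (10, -1)], [(12, 1), (13, -1)], [(15, 1), (16, -1)], [(2, 1),
    (3, 1), (4, 1), (5, -1), (6, -1), (7, -1)], [(11, 1), (12, 1), (13, 1), (14, -1), (15, -1),
    (16, -1)]] [(0, 1), (1, 1), (2, 1), (3, 1), (4, 1), (5, 1), (6, 1), (7, 1), (8, -1), (9, -1),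
    (10, -1), (11, -1), (12, -1), (13, -1), (14, -1), (15, -1), (16, -1)] 27 := by decide +kernel

theorem arith8 : ∀ a ∈ [77, 14, 5, -4], ∀ b ∈ [77, 14, 5, -4], 9 ∣ (248 + 4 * a + 4 * b : ℤ) →
    ∀ c ∈ [77, 14, 5, -4], 27 ∣ (248 + 6 * a + 12 * b + 8 * c : ℤ) → ∀ d ∈ [77, 14, 5, -4],
    81 ∣ (248 + 8 * a + 24 * b + 32 * c + 16 * d : ℤ) →
    0 ≤ (496 + 10 * a + 12 * b - 8 * c - 16 * d : ℤ) → ∀ e ∈ [77, 14, 5, -4],
    243 ∣ (248 + 10 * a + 40 * b + 80 * c + 80 * d + 32 * e : ℤ) → ∀ f ∈ [77, 14, 5, -4],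
    729 ∣ (248 + 12 * a + 60 * b + 160 * c + 240 * d + 192 * e + 64 * f : ℤ) →
    a = 14 ∧ b = 77 ∧ c = 5 ∧ d = 14 := by decide +kernel

theorem count8 {τ : ℕ → ℤ} (h0 : τ 0 = 248) (h1 : ∀ m, τ (m + 1) ∈ [77, 14, 5, -4])
    (N : (Fin 6 → Option Bool) → ℕ) (h2 : ∀ c, wsum (List.ofFn fun i => prF (3 : ℕ) (c i)) τ =
      (∏ i, if c i = none then 1 else ((3 : ℕ) : ℤ)) * N c) :
    N ![some true, some false, some false, some false, none, none] = 0 ∧
      N ![none, some false, some false, some false, none, none] = 128 := by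
  have a2 := h2 ![some true, some true, none, none, none, none]
  have a3 := h2 ![some true, some true, some true, none, none, none]
  have a4 := h2 ![some true, some true, some true, some true, none, none]
  have a5 := h2 ![some true, some true, some true, some true, some true, none]
  have a6 := h2 ![some true, some true, some true, some true, some true, some true]
  have a7 := h2 ![some true, some true, some true, some false, none, none]
  have a8 := h2 ![some true, some false, some false, some false, none, none]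
  have a9 := h2 ![none, some false, some false, some false, none, none]
  simp [wsum, prF, h0, Fin.prod_univ_succ] at a2 a3 a4 a5 a6 a7 a8 a9
  obtain ⟨b1, b2, b3, b4⟩ := arith8 (τ 1) (h1 0) (τ 2) (h1 1) ⟨_, .trans (by ring) a2⟩ (τ 3)
    (h1 2) ⟨_, .trans (by ring) a3⟩ (τ 4) (h1 3) ⟨_, .trans (by ring) a4⟩
    (le_of_le_of_eq (by positivity) (a7.symm.trans (by ring))) (τ 5) (h1 4)
    ⟨_, .trans (by ring) a5⟩ (τ 6) (h1 5) ⟨_, .trans (by ring) a6⟩
  norm_num [b1, b2, b3, b4] at a8 a9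
  exact ⟨a8, by omega⟩

theorem count6 {τ : ℕ → ℤ} (h0 : τ 0 = 27) (h1 : ∀ m, τ (m + 1) ∈ [9, 0])
    (N : (Fin 4 → Option Bool) → ℕ) (h2 : ∀ c, wsum (List.ofFn fun i => prF (3 : ℕ) (c i)) τ =
      (∏ i, if c i = none then 1 else ((3 : ℕ) : ℤ)) * N c) :
    (∀ m ≤ 4, τ m = [27, 9, 0, 0, 9].getD m 0) ∨ N ![some true, some false, some false, none] = 0 ∧
      N ![none, some false, some false, none] = 16 := by
  have a4 := h2 ![some true, some true, some true, some true]
  have a5 := h2 ![some true, some false, some false, none]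
  have a6 := h2 ![none, some false, some false, none]
  simp [wsum, prF, h0, Fin.prod_univ_succ] at a4 a5 a6
  refine ((by decide : ∀ a ∈ [9, 0], ∀ b ∈ [9, 0], ∀ c ∈ [9, 0], ∀ d ∈ [9, 0],
    81 ∣ (27 + 8 * a + 24 * b + 32 * c + 16 * d : ℤ) → a = 9 ∧ b = 0 ∧ c = 0 ∧ d = 9 ∨
      a = 0 ∧ b = 9 ∧ c = 0) (τ 1) (h1 0) (τ 2) (h1 1) (τ 3) (h1 2) (τ 4) (h1 3)
      ⟨_, .trans (by ring) a4⟩).imp (fun e m hm => ?_) fun e => ?_
  · interval_cases m <;> simp [h0, e]
  · norm_num [e] at a5 a6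
    exact ⟨a5, by omega⟩

/-- A regular group of order nine on nine points and a `3`-cycle on the other points. -/
def regP : Multiplicative (ZMod 3 × ZMod 3 × ZMod 3) →* Perm (Fin 4 × ZMod 3) :=
  MonoidHom.toHomPerm
    { toFun x q := if q.1 = 3 then (3, q.2 + x.toAdd.2.2) else
        (Fin.castSucc (n := 3) (x.toAdd.1 + q.1.val : ZMod 3), q.2 + x.toAdd.2.1)
      map_one' := funext (by decide +kernel)
      map_mul' x y := funext (by revert x y; decide +kernel) }

theorem cast_ne {k : Type*} [Field k] {p : ℕ} [hp : Fact p.Prime] [CharP k p] {q : ℕ} (hq : q.Prime)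
    (h : p ≠ q) : (q : k) ≠ 0 :=
  mt (CharP.cast_eq_zero_iff k p q).mp (mt (Nat.prime_dvd_prime_iff_eq hp.out hq).mp h)

variable {F : Type u} [Field F] [Finite F] (p : ℕ) [hp : Fact p.Prime] [CharP F p]

theorem not_sec6_13 (h : p ≠ 11) : ¬ Sec (chevE6.group F) (alternatingGroup (Fin 13)) := fun hS => by
  have := Fact.mk (by norm_num : Nat.Prime 11)
  obtain ⟨H, _, _, π, ρ, hP⟩ := pack6 p (AlgebraicClosure F) (Ω := Fin 13) (by simp) (by simpa)
  exact hP.no_rat h (by norm_num) (by norm_num) (by simp) (by norm_num) (by simp) (by norm_num)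
    (by simpa using tab6 (by norm_num) chk6_11)

theorem not_sec8_19 (h : p ≠ 17) : ¬ Sec (chevE8.group F) (alternatingGroup (Fin 19)) := fun hS => by
  have := Fact.mk (by norm_num : Nat.Prime 17)
  obtain ⟨H, _, _, π, ρ, hP⟩ := pack8 p (AlgebraicClosure F) (Ω := Fin 19) (by simp) (by simpa)
  exact hP.no_rat h (by norm_num) (by norm_num) (by simp) (by norm_num) (by simp) (by norm_num)
    (by simpa using tab8 (by norm_num) chk8_17)

theorem not_sec7_14 (h : p ≠ 7) : ¬ Sec (chevE7.group F) (alternatingGroup (Fin 14)) := fun hS => by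
  have := Fact.mk (by norm_num : Nat.Prime 7)
  obtain ⟨H, _, _, π, ρ, hP⟩ := pack7 p (AlgebraicClosure F) (Ω := Fin 2 × ZMod 7) (by simp)
    (by simpa)
  obtain ⟨η, τ, φ, ι, _, b, u, -, h0, h1, -, -, -, h2⟩ := hP.exists_shift (by norm_num) h
    (hP.min.coprime (by norm_num) (hP.central_bd h (by norm_num) (v := 1) (by norm_num) (by simp)
      (by simp))) (S := [56, 20, 8, 2]) (by simpa using tab7 (by norm_num) chk7_7)
    (T := [14, 0, -7]) (t := 0) (by simp) fun c hc hc' c' e => by simp at hc hc' e ⊢; omega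
  have h3 := h2 ![some true, some true]
  have h4 := h1 0
  have h5 := h1 1
  simp [wsum, prF, h0] at h3 h4 h5
  omega

theorem not_sec7_15 (h : p ≠ 5) : ¬ Sec (chevE7.group F) (alternatingGroup (Fin 15)) := fun hS => by
  have := Fact.mk (by norm_num : Nat.Prime 5)
  obtain ⟨H, _, _, π, ρ, hP⟩ := pack7 p (AlgebraicClosure F) (Ω := Fin 3 × ZMod 5) (by simp)
    (by simpa)
  obtain ⟨η, τ, φ, ι, _, b, u, -, h0, h1, -, -, -, h2⟩ := hP.exists_shift (by norm_num) h
    (hP.min.coprime (by norm_num) (hP.central_bd h (by norm_num) (v := 1) (by norm_num) (by simp)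
      (by simp))) (S := [56, 16]) (by simpa using tab7 (by norm_num) chk7_5)
    (T := [6]) (t := 6) (by simp) fun c hc hc' c' e => by simp at hc hc' e ⊢; omega
  have h3 := h2 ![some true, some true, some true]
  simp only [List.mem_singleton] at h1
  simp [wsum, prF, h0, h1, Fin.prod_univ_succ] at h3
  omega

theorem not_sec8_18 (h : p ≠ 3) : ¬ Sec (chevE8.group F) (alternatingGroup (Fin 18)) := fun hS => by
  obtain ⟨H, _, _, π, ρ, hP⟩ := pack8 p (AlgebraicClosure F) (Ω := Fin 6 × ZMod 3) (by simp)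
    (by simpa)
  have hc : ∀ s : ℕ, s.Prime → s ≠ p → ∀ x, π x = 1 → ∀ j, x ^ s ^ j = 1 → x ∈ center H :=
    fun s hs hsp => by
      have := Fact.mk hs
      rcases hs.eq_two_or_odd with rfl | e
      · exact hP.central_two hsp.symm (S := [248, 136, 120]) (a := 24) (b := -8)
          (by simpa using tab8 (by norm_num) chk8_2) (by simp) (by simp) (by simp) (by simp)
      · refine hP.central_bd hsp.symm hs.not_dvd_one (v := 5) (fun hd => ?_) (by simp)
          (lt_of_lt_of_le (by simp) (Nat.pow_le_pow_left hs.two_le _))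
        exact (by decide +kernel : ∀ s < 30, s % 2 = 1 → s ≠ 1 → ¬ s ^ (5 + 1) ∣ 696729600) s
          (lt_of_pow_lt_pow_left' 6 ((Nat.le_of_dvd (by norm_num) hd).trans_lt (by norm_num)))
          e hs.ne_one hd
  obtain ⟨η, τ, φ, ι, _, b, u, hη, h0, h1, -, hφ, hu, h2⟩ := hP.exists_shift (by norm_num) h
    (hP.min.coprime (by norm_num) (hc 3 Nat.prime_three h.symm)) (S := [248, 134, 92, 86, 80])
    (by simpa using tab8 (by norm_num) chk8_3) (T := [77, 14, 5, -4]) (t := 5) (by simp)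
    fun c hc hc' c' e => by simp at hc hc' e ⊢; omega
  obtain ⟨a1, a2⟩ := count8 (h0.trans (by simp)) h1 _ h2
  refine hP.spin_false hc hη hφ hu (m := 2) (by norm_num) (Fin.castLEEmb (by norm_num)) (by norm_num)
    plOK18 (by
      have := pow_ne_zero 3 (cast_ne (k := AlgebraicClosure F) Nat.prime_three h)
      norm_num at this ⊢; exact this) (P := fun a => ∀ i, okF
      (![none, some false, some false, some false, none, none] i) (u a (.ofAdd (Pi.single i 1))).toAdd)
    (fun a => ⟨fun h i => match i with | 0 => h 1 | 1 => h 2 | 2 => h 3, fun h i => match i with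
      | 0 => trivial | 1 => h 0 | 2 => h 1 | 3 => h 2 | 4 => trivial | 5 => trivial⟩)
    (fun a ha e => (Finite.card_eq_zero_iff.mp a1).false ⟨a, fun i => match i with
      | 0 => e | 1 => ha 1 | 2 => ha 2 | 3 => ha 3 | 4 => trivial | 5 => trivial⟩)
    (a2.symm ▸ by norm_num) (a2.symm ▸ by norm_num)

theorem not_sec6_12 (h2 : p ≠ 2) (h : p ≠ 3) : ¬ Sec (chevE6.group F) (alternatingGroup (Fin 12)) :=
  fun hS => by
  obtain ⟨H, _, _, π, ρ, hP⟩ := pack6 p (AlgebraicClosure F) (Ω := Fin 4 × ZMod 3) (by simp)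
    (by simpa)
  have hc : ∀ s : ℕ, s.Prime → s ≠ p → ∀ x, π x = 1 → ∀ j, x ^ s ^ j = 1 → x ∈ center H :=
    fun s hs hsp => by
      have := Fact.mk hs
      rcases hs.eq_two_or_odd with rfl | e
      · exact hP.central_two hsp.symm (S := [27, 15, 11]) (a := 3) (b := -5)
          (by simpa using tab6 (by norm_num) chk6_2) (by simp) (by simp) (by simp) (by simp)
      rcases eq_or_ne s 3 with rfl | e'
      · exact hP.central_three h (by simp) (tab6 (by norm_num) chk6_3) (by simp)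
      · refine hP.central_bd hsp.symm (mt (Nat.prime_dvd_prime_iff_eq hs Nat.prime_three).mp e')
          (v := 2) (fun hd => ?_) (by simp)
          (lt_of_lt_of_le (by simp) (Nat.pow_le_pow_left hs.two_le _))
        exact (by decide +kernel : ∀ s < 38, s % 2 = 1 → s ≠ 1 → s ≠ 3 → ¬ s ^ (2 + 1) ∣ 51840) s
          (lt_of_pow_lt_pow_left' 3 ((Nat.le_of_dvd (by norm_num) hd).trans_lt (by norm_num)))
          e hs.ne_one e' hd
  have h3 := hP.min.coprime (by norm_num) (hc 3 Nat.prime_three h.symm)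
  obtain ⟨η, τ, φ, ι, _, b, u, hη, h0, h1, hτ, hφ, hu, h4⟩ := hP.exists_shift (by norm_num) h h3
    (S := [27, 15, 9]) (by simpa using tab6 (by norm_num) chk6_3') (T := [9, 0]) (t := 0) (by simp)
    fun c hc hc' c' e => by simp at hc hc' e ⊢; omega
  obtain ⟨-, ι', _, -, v, -, -, h5⟩ := hP.exists_weights h3 hη hτ (by decide) (regP.codRestrict _
    fun x => Cfsg.Lib.Perm.Wag.sign_of_odd (by decide : Odd 3) (by
      rw [← map_pow, show x ^ 3 = 1 by revert x; decide, map_one]))
  let j : Multiplicative (ZMod 3 × ZMod 3) →* Multiplicative (ZMod 3 × ZMod 3 × ZMod 3) :=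
    AddMonoidHom.toMultiplicative ((AddMonoidHom.id _).prodMap (AddMonoidHom.inl _ _))
  have a1 := sum_tr v
  have a2 := sum_tr fun a => (v a).comp j
  have a3 : Nat.card {a // v a = 1} ≤ Nat.card {a // (v a).comp j = 1} :=
    Nat.card_le_card_of_injective (Subtype.map id fun a ha => by rw [id, ha, MonoidHom.one_comp])
      (Subtype.map_injective _ Function.injective_id)
  rcases count6 (h0.trans (by simp)) h1 _ h4 with e | ⟨a4, a5⟩
  · have h6 := fun x => (h5 x).trans (congrArg _ (e ((regP x).support.card / 3)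
      (by revert x; decide +kernel)))
    simp only [MonoidHom.comp_apply, h6, ← Int.cast_sum] at a1 a2
    rw [show ∑ x, _ = (189 : ℤ) by decide +kernel] at a1
    rw [show ∑ x, _ = (27 : ℤ) by decide +kernel] at a2
    norm_cast at a1 a2
    rw [show Nat.card _ = 27 by simp] at a1
    rw [show Nat.card _ = 9 by simp] at a2
    omega
  refine hP.spin_false hc hη hφ hu (m := 1) (by norm_num) (Fin.castLEEmb (by norm_num)) (by norm_num)
    plOK12 (by
      have := pow_ne_zero 2 (mul_ne_zero (cast_ne (k := AlgebraicClosure F) Nat.prime_two h2)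
        (cast_ne Nat.prime_three h))
      norm_num at this ⊢; exact this) (P := fun a => ∀ i, okF
      (![none, some false, some false, none] i) (u a (.ofAdd (Pi.single i 1))).toAdd)
    (fun a => ⟨fun h i => match i with | 0 => h 1 | 1 => h 2, fun h i => match i with
      | 0 => trivial | 1 => h 0 | 2 => h 1 | 3 => trivial⟩)
    (fun a ha e => (Finite.card_eq_zero_iff.mp a4).false ⟨a, fun i => match i with
      | 0 => e | 1 => ha 1 | 2 => ha 2 | 3 => trivial⟩)
    (a5.symm ▸ by norm_num) (a5.symm ▸ by norm_num)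

end Cfsg.Lib.Cor.AltE
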